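import Groth.Agent.DepthTwist.Main
import Groth.Agent.ZeroSchX.Basic
import Groth.Agent.InvX.GenLocus
import Groth.Agent.H23.UnitSec
import Groth.Agent.AssLib.Apply
import Groth.Agent.AssPtX.Basic
import Groth.Agent.QCoh.HHExact
import Groth.Agent.GeomField.GlobalFunctions

/-!
# Zero schemes of sections of ample modules under depth two are connected
-/

set_option linter.style.haveILetI false
set_option backward.isDefEq.respectTransparency false
set_option backward.isDefEq.respectTransparency.types false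

universe u

open CategoryTheory CategoryTheory.Limits AlgebraicGeometry TopologicalSpace Opposite MonoidalCategory
open Groth.Agent.H23.PicMul
open scoped TensorProduct

noncomputable section

namespace Groth.Agent.DepthTwist

open Groth.Agent

variable {X : Scheme.{u}} {L : X.Modules}

theorem germ_eq_smul_res {U V : X.Opens} {x : X} (hV : x ∈ V) (h : V ≤ U) (m : Γ(L, U)) :
    L.presheaf.germ U x (h hV) m = L.presheaf.germ V x hV (AModX.res L h m) :=
  (InvX.germ_res' h hV m).symm

/-- The stalk of a section generates exactly on its generating locus. -/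
theorem surjective_stalk_iff (hL : PicF.IsInvertible L) (s : Coh.structureModule X ⟶ L) (x : X) :
    Function.Surjective ((DerSch.stalkFunctor X x).map s) ↔ x ∈ CohB1.genLocus L s := by
  constructor
  · intro h
    obtain ⟨U, hxU, e, he⟩ := InvX.exists_frame hL x
    obtain ⟨g, hg⟩ := he.exists_coord le_rfl (AModX.res L (le_top : U ≤ ⊤) (InvX.one s))
    rw [AModX.res_self] at hg
    have hgen := InvX.genLocus_inf s he hg
    suffices hx : x ∈ X.basicOpen g by
      rw [← hgen] at hx
      exact hx.1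
    rw [Scheme.mem_basicOpen X g x hxU]
    by_contra hu
    obtain ⟨c, hc⟩ := h (L.presheaf.germ U x hxU e)
    obtain ⟨r, hr⟩ := Submodule.mem_span_singleton.1
      ((H23.UnitSec.span_one x).ge (Submodule.mem_top : c ∈ ⊤))
    have h1 : (DerSch.stalkFunctor X x).map s (H23.UnitSec.one x) =
        X.presheaf.germ U x hxU g • L.presheaf.germ U x hxU e := by
      rw [← H23.UnitSec.germ_oneG U hxU, DerSch.stalkFunctor_map_germ, ← QCoh.germ_smul' L hxU g e]
      refine congrArg (L.presheaf.germ U x hxU).hom ?_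
      rw [InvX.app_eq_smul, ← hg]
      exact one_smul _ _
    rw [← hr] at hc
    have h2 := ((map_smul ((DerSch.stalkFunctor X x).map s).hom r _).symm.trans hc)
    rw [h1, smul_smul] at h2
    have h3 : (1 - r * X.presheaf.germ U x hxU g) • L.presheaf.germ U x hxU e = 0 := by
      rw [sub_smul, one_smul, h2, sub_self]
    have h4 : IsUnit (1 - r * X.presheaf.germ U x hxU g) :=
      IsLocalRing.isUnit_one_sub_self_of_mem_nonunits _ fun hh => hu (isUnit_of_mul_isUnit_right hh)
    rw [h4.smul_eq_zero] at h3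
    obtain ⟨W, hxW, i, j, h5⟩ := L.presheaf.germ_eq x hxU hxU e 0 (h3.trans (map_zero _).symm)
    have h6 : AModX.res L (leOfHom i) e = 0 := h5.trans (map_zero _)
    have h7 : (1 : Γ(X, W)) = 0 := (he W (leOfHom i)).1 (by
      show (1 : Γ(X, W)) • AModX.res L (leOfHom i) e = (0 : Γ(X, W)) • AModX.res L (leOfHom i) e
      rw [h6, smul_zero, smul_zero])
    exact one_ne_zero ((map_one (X.presheaf.germ W x hxW).hom).symm.trans
      ((congrArg _ h7).trans (map_zero _)))
  · intro hx m
    obtain ⟨U, hxU, hU⟩ := InvX.mem_genLocus hx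
    obtain ⟨V, hxV, n, rfl⟩ := L.presheaf.germ_exist m
    obtain ⟨r, hr⟩ := hU.exists_coord (inf_le_right : V ⊓ U ≤ U) (AModX.res L inf_le_left n)
    have hxW : x ∈ V ⊓ U := ⟨hxV, hxU⟩
    refine ⟨(Coh.structureModule X).presheaf.germ (V ⊓ U) x hxW (H23.UnitSec.ofFn r), ?_⟩
    rw [DerSch.stalkFunctor_map_germ, germ_eq_smul_res hxW inf_le_left n]
    refine congrArg (L.presheaf.germ (V ⊓ U) x hxW).hom ?_
    refine (InvX.app_eq_smul s _).trans ?_
    rw [hr, AModX.res_res]
    rfl

/-- The support of the zero scheme is the complement of the generating locus. -/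
theorem mem_support_zeroScheme_iff (hL : PicF.IsInvertible L) (s : Coh.structureModule X ⟶ L) (x : X) :
    x ∈ (PicF2.zeroScheme L s).support ↔ x ∉ CohB1.genLocus L s := by
  obtain ⟨U, hxU, e, he⟩ := InvX.exists_frame hL x
  obtain ⟨_, ⟨V, hV, rfl⟩, hxV, hVU⟩ := X.isBasis_affineOpens.exists_subset_of_mem_open hxU U.isOpen
  have he' := he.res (show V ≤ U from hVU)
  obtain ⟨g, hg⟩ := he'.exists_coord le_rfl (AModX.res L (le_top : V ≤ ⊤) (InvX.one s))
  rw [AModX.res_self] at hg
  have hsv : ZeroSchX.sv s V = g • AModX.res L (show V ≤ U from hVU) e :=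
    (ZeroSchX.res_sv s (le_top : V ≤ ⊤)).symm.trans hg
  have hgen := InvX.genLocus_inf s he' hg
  rw [Scheme.IdealSheafData.mem_support_iff_of_mem (U := ⟨V, hV⟩) hxV, ZeroSchX.ideal_zeroScheme hL,
    ZeroSchX.zeroIdealOn_eq_span s he' hsv, Scheme.zeroLocus_span, Scheme.zeroLocus_singleton]
  rw [Set.mem_compl_iff, SetLike.mem_coe, ← hgen]
  exact ⟨fun h h' => h ⟨h', hxV⟩, fun h h' => h h'.1⟩

/-- The map `M^n ⟶ O` given by the powers of `ψ : M ⟶ O`. -/
def powDual {M : X.Modules} (ψ : M ⟶ Coh.structureModule X) :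
    (n : ℕ) → (CohB1.tensorPow M n ⟶ Coh.structureModule X)
  | 0 => 𝟙 _
  | n + 1 => (DCoh.tensorBi.obj (CohB1.tensorPow M n)).map ψ ≫
      (KFlatLib.tensorUnitIso (CohB1.tensorPow M n)).hom ≫ powDual ψ n

theorem isEquivalence_tensorLeft {P : X.Modules} (hP : PicF.IsInvertible P) :
    (DCoh.tensorBi.obj P).IsEquivalence :=
  haveI := AmpleVan.isEquivalence_tw hP
  Functor.isEquivalence_of_iso ((KFlatLib.tensorBiFlipIso X).app P)

theorem mono_powDual {M : X.Modules} (hM : PicF.IsInvertible M) (ψ : M ⟶ Coh.structureModule X) [Mono ψ] :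
    ∀ n, Mono (powDual ψ n)
  | 0 => by rw [powDual]; exact inferInstanceAs (Mono (𝟙 (Coh.structureModule X)))
  | n + 1 => by
    haveI := mono_powDual hM ψ n
    haveI := isEquivalence_tensorLeft (InvX.isInvertible_tensorPow hM n)
    haveI : Mono ((DCoh.tensorBi.obj (CohB1.tensorPow M n)).map ψ) := inferInstance
    rw [powDual]
    exact mono_comp _ _

theorem surjective_powDual {M : X.Modules} (hM : PicF.IsInvertible M) (ψ : M ⟶ Coh.structureModule X)
    (x : X) (hψ : Function.Surjective ((DerSch.stalkFunctor X x).map ψ)) :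
    ∀ n, Function.Surjective ((DerSch.stalkFunctor X x).map (powDual ψ n))
  | 0 => (ConcreteCategory.bijective_of_isIso
      ((DerSch.stalkFunctor X x).mapIso (Iso.refl (Coh.structureModule X))).hom).2
  | n + 1 => by
    obtain ⟨e⟩ := H23.InvStalk.exists_stalk_equiv_pow hM x n
    rw [powDual, Functor.map_comp, Functor.map_comp]
    exact ((surjective_powDual hM ψ x hψ n).comp
      (ConcreteCategory.bijective_of_isIso
        ((DerSch.stalkFunctor X x).map (KFlatLib.tensorUnitIso (CohB1.tensorPow M n)).hom)).2).comp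
      ((H23.InvStalk.stalk_tensor_map_surjective_iff ψ x e).2 hψ)

theorem surjective_of_powDual {M : X.Modules} (hM : PicF.IsInvertible M) (ψ : M ⟶ Coh.structureModule X)
    (x : X) : ∀ n, Function.Surjective ((DerSch.stalkFunctor X x).map (powDual ψ (n + 1))) →
      Function.Surjective ((DerSch.stalkFunctor X x).map ψ)
  | 0 => fun h => by
    obtain ⟨e⟩ := H23.InvStalk.exists_stalk_equiv_pow hM x 0
    refine (H23.InvStalk.stalk_tensor_map_surjective_iff ψ x e).1 ?_
    rw [powDual, Functor.map_comp, Functor.map_comp] at h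
    have hbij : Function.Bijective ((DerSch.stalkFunctor X x).map
        ((KFlatLib.tensorUnitIso (CohB1.tensorPow M 0)).hom ≫ powDual ψ 0)) :=
      ConcreteCategory.bijective_of_isIso ((DerSch.stalkFunctor X x).mapIso
        (KFlatLib.tensorUnitIso (CohB1.tensorPow M 0) ≪≫ Iso.refl (Coh.structureModule X))).hom
    rw [Functor.map_comp] at hbij
    exact (Function.Surjective.of_comp_iff' hbij _).1 h
  | n + 1 => fun h => by
    refine surjective_of_powDual hM ψ x n ?_
    rw [powDual, Functor.map_comp, Functor.map_comp] at h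
    exact Function.Surjective.of_comp (Function.Surjective.of_comp h)

section

variable (k : Type u) [Field k] [X.Over (Spec (CommRingCat.of k))]

attribute [local instance] GeomField.globalAlgebra

include k in
/-- On a connected proper scheme a global function vanishes everywhere or nowhere. -/
theorem basicOpen_eq_top [UniversallyClosed (X ↘ Spec (CommRingCat.of k))] [ConnectedSpace X]
    (f : Γ(X, ⊤)) {a : X} (ha : a ∈ X.basicOpen f) (b : X) : b ∈ X.basicOpen f := by
  haveI := GeomField.algebraMap_integral k X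
  let B := Algebra.adjoin k {f}
  haveI : Module.Finite k B := Algebra.finite_adjoin_simple_of_isIntegral (Algebra.IsIntegral.isIntegral f)
  haveI : IsArtinianRing B := IsArtinianRing.of_finite k B
  obtain ⟨n, y, hy⟩ := IsArtinian.exists_pow_succ_smul_dvd
    (⟨f, Algebra.self_mem_adjoin_singleton k f⟩ : B) (1 : B)
  have hy' : f ^ n * (1 - f * (y : Γ(X, ⊤))) = 0 := by
    have h := congrArg Subtype.val hy
    simp only [smul_eq_mul, mul_one, Subalgebra.coe_mul, Subalgebra.coe_pow] at h
    rw [mul_sub, mul_one, ← mul_assoc, ← pow_succ, h, sub_self]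
  let q := 1 - f * (y : Γ(X, ⊤))
  have key : ∀ z : X, z ∉ X.basicOpen f ↔ z ∈ X.basicOpen q := fun z => by
    rw [Scheme.mem_basicOpen_top, Scheme.mem_basicOpen_top]
    have hq : X.presheaf.germ ⊤ z trivial q =
        1 - X.presheaf.germ ⊤ z trivial f * X.presheaf.germ ⊤ z trivial (y : Γ(X, ⊤)) := by
      simp only [q, map_sub, map_one, map_mul]
    constructor
    · intro h
      rw [hq]
      refine IsLocalRing.isUnit_one_sub_self_of_mem_nonunits _ fun hh => h (isUnit_of_mul_isUnit_left hh)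
    · intro h hf
      have h0 := congrArg (X.presheaf.germ ⊤ z trivial).hom hy'
      rw [map_mul, map_pow, map_zero] at h0
      rw [(hf.pow n).mul_right_eq_zero.1 h0] at h
      exact not_isUnit_zero h
  have hcl : IsClopen (X.basicOpen f : Set X) := by
    refine ⟨⟨?_⟩, (X.basicOpen f).isOpen⟩
    rw [show (X.basicOpen f : Set X)ᶜ = X.basicOpen q from Set.ext key]
    exact (X.basicOpen q).isOpen
  exact ((hcl.eq_univ ⟨a, ha⟩).ge (Set.mem_univ b) :)

variable [IsProper (X ↘ Spec (CommRingCat.of k))]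

include k in
/-- A scheme proper over a field with a point of depth two is not affine. -/
theorem false_of_affine [IsAffine X] {x : X} (hx : 2 ≤ LocCoh.depth (X.presheaf.stalk x) (X.presheaf.stalk x)) :
    False := by
  haveI := GeomField.algebraMap_integral k X
  haveI : IsLocallyNoetherian X := LocallyOfFiniteType.isLocallyNoetherian (X ↘ Spec (CommRingCat.of k))
  have hmax : ∀ P : Ideal Γ(X, ⊤), P.IsPrime → P.IsMaximal := fun P hP => by
    haveI := hP
    exact Ideal.Quotient.maximal_of_isField P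
      (isField_of_isIntegral_of_isField' (Field.toIsField k) : IsField (Γ(X, ⊤) ⧸ P))
  have hU := isAffineOpen_top X
  letI := X.presheaf.algebra_section_stalk (U := ⊤) ⟨x, trivial⟩
  haveI := hU.isLocalization_stalk ⟨x, trivial⟩
  let P := (hU.primeIdealOf ⟨x, trivial⟩).asIdeal
  have hP : P ∈ minimalPrimes Γ(X, ⊤) := ⟨⟨(hU.primeIdealOf ⟨x, trivial⟩).2, bot_le⟩,
    fun Q hQ hle => ((hmax Q hQ.1).eq_of_le (hU.primeIdealOf ⟨x, trivial⟩).2.ne_top hle).ge⟩
  haveI : Ring.KrullDimLE 0 (X.presheaf.stalk x) := Ring.KrullDimLE.of_isLocalization P hP (X.presheaf.stalk x)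
  have h0 : ringKrullDim (X.presheaf.stalk x) ≤ 0 := Ring.krullDimLE_iff.1 inferInstance
  have h1 := (LC.depth_le_supportDim (R := X.presheaf.stalk x) (M := X.presheaf.stalk x)).trans
    ((Module.supportDim_le_ringKrullDim _ _).trans h0)
  have h2 := (WithBot.coe_le_coe.2 hx).trans h1
  have h3 : (2 : ℕ) ≤ 0 := by exact_mod_cast h2
  omega

include k in
/-- The zero scheme of a regular section of an ample module on a connected proper scheme of depth at
least two at the closed points is connected. -/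
theorem connected_support_zeroScheme [ConnectedSpace X] (hL : CohB1.IsAmple L)
    (s : Coh.structureModule X ⟶ L) [Mono s]
    (hdepth : ∀ x : X, IsClosed ({x} : Set X) → 2 ≤ LocCoh.depth (X.presheaf.stalk x) (X.presheaf.stalk x)) :
    _root_.IsConnected ((PicF2.zeroScheme L s).support : Set X) := by
  haveI : IsLocallyNoetherian X := LocallyOfFiniteType.isLocallyNoetherian (X ↘ Spec (CommRingCat.of k))
  have hne : ((PicF2.zeroScheme L s).support : Set X).Nonempty := by
    by_contra h
    have htop : CohB1.genLocus L s = ⊤ := eq_top_iff.2 fun z _ => by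
      by_contra hz
      exact h ⟨z, (mem_support_zeroScheme_iff hL.1 s z).2 hz⟩
    haveI haff : IsAffine (⊤ : X.Opens).toScheme :=
      htop ▸ AmpleEmbed.isAffineOpen_genLocus (X ↘ Spec (CommRingCat.of k)) hL s
    haveI : IsAffine X := .of_isIso (Scheme.topIso X).inv
    haveI : CompactSpace X := hL.2.1
    obtain ⟨x, -, hx⟩ := IsClosed.exists_closed_singleton (isClosed_univ (X := X)) Set.univ_nonempty
    exact false_of_affine k (hdepth x hx)
  obtain ⟨D, hD, ⟨eD⟩⟩ := H23.PicInv.exists_inverse hL.1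
  obtain ⟨c⟩ : Nonempty ((DCoh.tensorBi.obj D).obj L ≅ Coh.structureModule X) := cl_eq_iff.1 (by
    show PicF.cl (CohB1.tensorMod D L) = _
    rw [cl_tensor, mul_comm, ← cl_tensor]
    exact cl_eq_iff.2 ⟨eD⟩)
  let ψ : D ⟶ Coh.structureModule X :=
    (KFlatLib.tensorUnitIso D).inv ≫ (DCoh.tensorBi.obj D).map s ≫ c.hom
  haveI := isEquivalence_tensorLeft hD
  haveI : Mono ψ := mono_comp _ _
  have hψs : ∀ x, Function.Surjective ((DerSch.stalkFunctor X x).map ψ) ↔
      x ∈ CohB1.genLocus L s := fun x => by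
    obtain ⟨e⟩ := H23.InvStalk.exists_stalk_equiv hD x
    rw [← surjective_stalk_iff hL.1 s x, ← H23.InvStalk.stalk_tensor_map_surjective_iff s x e]
    have ha := ConcreteCategory.bijective_of_isIso ((DerSch.stalkFunctor X x).map c.hom)
    have hb := ConcreteCategory.bijective_of_isIso ((DerSch.stalkFunctor X x).map (KFlatLib.tensorUnitIso D).inv)
    simp only [ψ, Functor.map_comp]
    exact (Function.Surjective.of_comp_iff _ hb.2).trans (Function.Surjective.of_comp_iff' ha _)
  obtain ⟨m₀, hm₀⟩ := exists_vanishing_neg k hL (M := D) ⟨eD⟩ (Coh.structureModule X)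
    (CurveDeg.isCoh_of_isInvertible H23.InvStalk.isInvertible_structureModule) (fun x hx => by
      obtain ⟨e⟩ := AssLib.nonempty_stalkUnitEquiv x
      exact (hdepth x hx).trans (Alg6.depth_eq_of_semilinear (RingHom.id (X.presheaf.stalk x))
        (fun a => ⟨a, rfl⟩) e.toAddEquiv (fun r v => map_smul e r v)).le)
  let φ := powDual ψ (m₀ + 1)
  haveI : Mono φ := mono_powDual hD ψ _
  let S := ShortComplex.mk φ (cokernel.π φ) (cokernel.condition φ)
  have hS : S.ShortExact := { exact := ShortComplex.exact_of_g_is_cokernel _ (cokernelIsCokernel φ) }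
  have hsurj : Function.Surjective ((cokernel.π φ).app ⊤) := by
    obtain ⟨u⟩ : Nonempty (CohB1.tensorMod (Coh.structureModule X) (CohB1.tensorPow D (m₀ + 1)) ≅
        CohB1.tensorPow D (m₀ + 1)) := cl_eq_iff.1 (by rw [cl_tensor, ← H23.PicMul.one_def, one_mul])
    exact QCoh.app_top_surjective_of_HH_one hS (QCoh.subsingleton_HH_of_iso u 1 (hm₀ _ (Nat.le_succ _)))
  have hker : ∀ x (v : (DerSch.stalkFunctor X x).obj (Coh.structureModule X)),
      (DerSch.stalkFunctor X x).map (cokernel.π φ) v = 0 →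
        ∃ w, (DerSch.stalkFunctor X x).map φ w = v := fun x v hv =>
    (ShortComplex.moduleCat_exact_iff _).1 (hS.map_of_exact (DerSch.stalkFunctor X x)).exact v hv
  have hzero : ∀ x ∈ CohB1.genLocus L s, ∀ v, (DerSch.stalkFunctor X x).map (cokernel.π φ) v = 0 :=
    fun x hx v => by
    obtain ⟨w, rfl⟩ := surjective_powDual hD ψ x ((hψs x).2 hx) (m₀ + 1) v
    rw [← ConcreteCategory.comp_apply, ← Functor.map_comp, cokernel.condition, Functor.map_zero]
    rfl
  have hone : ∀ x ∈ (PicF2.zeroScheme L s).support, ∀ r : X.presheaf.stalk x,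
      (DerSch.stalkFunctor X x).map (cokernel.π φ) (r • H23.UnitSec.one x) = 0 → ¬ IsUnit r :=
    fun x hx r h hr => by
    refine (mem_support_zeroScheme_iff hL.1 s x).1 hx ((hψs x).1 (surjective_of_powDual hD ψ x m₀ fun v => ?_))
    obtain ⟨w, hw⟩ := hker x _ h
    obtain ⟨a, ha⟩ := Submodule.mem_span_singleton.1
      ((H23.UnitSec.span_one x).ge (Submodule.mem_top : v ∈ ⊤))
    refine ⟨(a * ↑hr.unit⁻¹) • w, (map_smul ((DerSch.stalkFunctor X x).map φ).hom _ w).trans ?_⟩
    rw [show ((DerSch.stalkFunctor X x).map φ).hom w = r • H23.UnitSec.one x from hw, smul_smul,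
      mul_assoc, hr.val_inv_mul, mul_one]
    exact ha
  refine ⟨hne, isPreconnected_closed_iff.2 fun t t' ht ht' hcov hA hB => ?_⟩
  by_contra hAB
  let Z : Set X := (PicF2.zeroScheme L s).support
  have hZc : IsClosed Z := (PicF2.zeroScheme L s).support.isClosed
  let UA : X.Opens := ⟨(Z ∩ t')ᶜ, (hZc.inter ht').isOpen_compl⟩
  let UB : X.Opens := ⟨(Z ∩ t)ᶜ, (hZc.inter ht).isOpen_compl⟩
  have hW : ∀ z, z ∈ UA → z ∈ UB → z ∈ CohB1.genLocus L s := fun z hzA hzB => by
    by_contra hz
    have hzZ : z ∈ Z := (mem_support_zeroScheme_iff hL.1 s z).2 hz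
    rcases hcov hzZ with h | h
    · exact hzB ⟨hzZ, h⟩
    · exact hzA ⟨hzZ, h⟩
  let Q : X.Modules := cokernel φ
  let one' : Γ(Q, ⊤) := (cokernel.π φ).app ⊤ (H23.UnitSec.oneG ⊤)
  let U : Bool → X.Opens := fun i => cond i UA UB
  let sf : ∀ i, Γ(Q, U i) := fun i => AModX.res Q le_top (cond i one' 0)
  have hgerm : ∀ z, z ∈ UA ⊓ UB → ∀ q : Γ(Q, ⊤), Q.presheaf.germ ⊤ z trivial q = 0 := fun z hz q => by
    obtain ⟨r, rfl⟩ := hsurj q
    exact (DerSch.stalkFunctor_map_germ z (cokernel.π φ) ⊤ trivial r).symm.trans (hzero z (hW z hz.1 hz.2) _)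
  obtain ⟨q, hq, -⟩ := TopCat.Sheaf.existsUnique_gluing' ⟨Q.presheaf, Q.isSheaf⟩ U ⊤ (fun i => homOfLE le_top)
    (fun z _ => by
      by_cases hz : z ∈ Z ∩ t'
      · exact Opens.mem_iSup.2 ⟨false, fun hz' => hAB ⟨z, hz.1, hz'.2, hz.2⟩⟩
      · exact Opens.mem_iSup.2 ⟨true, hz⟩) sf (fun i j => by
      refine TopCat.Presheaf.section_ext ⟨Q.presheaf, Q.isSheaf⟩ _ _ _ fun z hz => ?_
      show Q.presheaf.germ _ z hz _ = Q.presheaf.germ _ z hz _
      rw [TopCat.Presheaf.germ_res_apply, TopCat.Presheaf.germ_res_apply]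
      simp only [sf, AModX.res]
      rw [TopCat.Presheaf.germ_res_apply, TopCat.Presheaf.germ_res_apply]
      cases i <;> cases j
      · rfl
      · exact (hgerm z ⟨hz.2, hz.1⟩ _).trans (hgerm z ⟨hz.2, hz.1⟩ _).symm
      · exact (hgerm z ⟨hz.1, hz.2⟩ _).trans (hgerm z ⟨hz.1, hz.2⟩ _).symm
      · rfl)
  obtain ⟨f, hf⟩ := hsurj q
  have heval : ∀ (i : Bool) (z : X), z ∈ U i → Q.presheaf.germ ⊤ z trivial q =
      Q.presheaf.germ ⊤ z trivial (cond i one' 0) := fun i z hz => by
    have h := congrArg (Q.presheaf.germ (U i) z hz).hom (hq i)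
    simp only [sf, AModX.res] at h
    erw [TopCat.Presheaf.germ_res_apply, TopCat.Presheaf.germ_res_apply] at h
    exact h
  have hfz : ∀ z : X, Q.presheaf.germ ⊤ z trivial q = (DerSch.stalkFunctor X z).map (cokernel.π φ)
      (X.presheaf.germ ⊤ z trivial (show Γ(X, ⊤) from f) • H23.UnitSec.one z) := fun z => by
    rw [H23.UnitSec.germ_smul_one, DerSch.stalkFunctor_map_germ, ← hf]
    rfl
  obtain ⟨a, haZ, hat⟩ := hA
  obtain ⟨b, hbZ, hbt⟩ := hB
  have hfb : ¬ IsUnit (X.presheaf.germ ⊤ b trivial (show Γ(X, ⊤) from f)) := by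
    refine hone b hbZ _ ?_
    rw [← hfz, heval false b (fun h => hAB ⟨b, h.1, h.2, hbt⟩)]
    exact map_zero _
  have hfa : IsUnit (X.presheaf.germ ⊤ a trivial (show Γ(X, ⊤) from f)) := by
    by_contra hu
    have hu' := IsLocalRing.isUnit_one_sub_self_of_mem_nonunits _ hu
    refine hone a haZ _ ?_ hu'
    rw [sub_smul, one_smul, map_sub, ← hfz, heval true a (fun h => hAB ⟨a, h.1, hat, h.2⟩)]
    refine sub_eq_zero.2 ((DerSch.stalkFunctor_map_germ a (cokernel.π φ) ⊤ trivial _).trans ?_)
    rfl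
  exact hfb ((Scheme.mem_basicOpen_top X _ b).1
    (basicOpen_eq_top k _ ((Scheme.mem_basicOpen_top X _ a).2 hfa) b))

end

end Groth.Agent.DepthTwist
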