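import Groth.Agent.DepthTwist.Connected
import Groth.Agent.IntSym.QuotTensor
import Groth.Agent.S8914

/-!
# The module of a power of an invertible ideal is the tensor power of the module of the ideal
-/

set_option linter.style.haveILetI false
set_option linter.unusedSectionVars false
set_option backward.isDefEq.respectTransparency false
set_option backward.isDefEq.respectTransparency.types false

universe u

open CategoryTheory CategoryTheory.Limits AlgebraicGeometry TopologicalSpace Opposite MonoidalCategory
open Groth.Agent.H23.PicMul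
open scoped TensorProduct

noncomputable section

namespace Groth.Agent.DepthTwist

open Groth.Agent

variable {X : Scheme.{u}}

/-- A linear map with image `a • ⊤` keeps such an image after tensoring. -/
theorem range_lTensor_eq_smul_top {R M N P : Type u} [CommRing R] [AddCommGroup M] [Module R M]
    [AddCommGroup N] [Module R N] [AddCommGroup P] [Module R P] (φ : N →ₗ[R] P) (a : Ideal R)
    (h : LinearMap.range φ = a • (⊤ : Submodule R P)) :
    LinearMap.range (φ.lTensor M) = a • (⊤ : Submodule R (M ⊗[R] P)) := by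
  refine le_antisymm ?_ (Submodule.smul_le.2 fun r hr t _ => ?_)
  · rintro _ ⟨t, rfl⟩
    induction t using TensorProduct.induction_on with
    | zero => simp
    | add p q hp hq => rw [map_add]; exact add_mem hp hq
    | tmul m n =>
      rw [LinearMap.lTensor_tmul]
      have hn : φ n ∈ a • (⊤ : Submodule R P) := h ▸ LinearMap.mem_range_self φ n
      refine Submodule.smul_induction_on hn (fun r hr p _ => ?_) (fun p q hp hq => ?_)
      · rw [TensorProduct.tmul_smul]
        exact Submodule.smul_mem_smul hr Submodule.mem_top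
      · rw [TensorProduct.tmul_add]
        exact add_mem hp hq
  · induction t using TensorProduct.induction_on with
    | zero => simp
    | add p q hp hq => rw [smul_add]; exact add_mem (hp Submodule.mem_top) (hq Submodule.mem_top)
    | tmul m p =>
      obtain ⟨n, hn⟩ : r • p ∈ LinearMap.range φ := h ▸ Submodule.smul_mem_smul hr Submodule.mem_top
      exact ⟨m ⊗ₜ n, by rw [LinearMap.lTensor_tmul, hn, TensorProduct.tmul_smul]⟩

/-- The ideal of a quasi-coherent ideal sheaf in the local ring at a point. -/
def stI (D : X.IdealSheafData) (W : X.affineOpens) {x : X} (hx : x ∈ W.1) : Ideal (X.presheaf.stalk x) :=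
  (D.ideal W).map (X.presheaf.germ W.1 x hx).hom

/-- The image of the ideal module in the stalk of the structure module. -/
theorem range_idealModι (D : X.IdealSheafData) (W : X.affineOpens) {x : X} (hx : x ∈ W.1) :
    LinearMap.range ((DerSch.stalkFunctor X x).map (ClSub.idealModι D)).hom =
      stI D W hx • (⊤ : Submodule (X.presheaf.stalk x) ((DerSch.stalkFunctor X x).obj (Coh.structureModule X))) := by
  let Φ := DerSch.stalkFunctor X x
  refine le_antisymm ?_ (Submodule.smul_le.2 fun r hr v _ => ?_)
  · rintro _ ⟨v, rfl⟩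
    obtain ⟨W', hW', hxW', hW'W, s', rfl⟩ : ∃ (W' : X.Opens) (_ : IsAffineOpen W') (h : x ∈ W') (_ : W' ≤ W.1)
        (s' : Γ(ClSub.idealMod D, W')), (ClSub.idealMod D).presheaf.germ W' x h s' = v := by
      obtain ⟨V, hxV, s, rfl⟩ := TopCat.Presheaf.exists_germ_eq (ClSub.idealMod D).presheaf v
      obtain ⟨_, ⟨W', hW', rfl⟩, hxW', hle⟩ := X.isBasis_affineOpens.exists_subset_of_mem_open
        (show x ∈ W.1 ⊓ V from ⟨hx, hxV⟩) (W.1 ⊓ V).isOpen
      have hle' : W' ≤ W.1 ⊓ V := hle
      exact ⟨W', hW', hxW', hle'.trans inf_le_left, _,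
        (ClSub.idealMod D).presheaf.germ_res_apply (homOfLE (hle'.trans inf_le_right)) x hxW' s⟩
    have he : (Φ.map (ClSub.idealModι D)).hom ((ClSub.idealMod D).presheaf.germ W' x hxW' s') =
        (Coh.structureModule X).presheaf.germ W' x hxW' ((ClSub.idealModι D).app W' s') :=
      DerSch.stalkFunctor_map_germ x _ W' hxW' s'
    rw [he]
    set r : Γ(X, W') := (ClSub.idealModι D).app W' s' with hrdef
    have hr : r ∈ D.ideal ⟨W', hW'⟩ := (IntSym.QuotTensor.toSub_app_eq_zero D hW' r).1
      congr(($(kernel.condition (ClSub.toSubscheme D))).app W' s')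
    change (Coh.structureModule X).presheaf.germ W' x hxW' (H23.UnitSec.ofFn r) ∈ _
    rw [← H23.UnitSec.germ_smul_one]
    refine Submodule.smul_mem_smul ?_ Submodule.mem_top
    rw [← D.map_ideal (U := ⟨W', hW'⟩) (V := W) (show W' ≤ W.1 from hW'W)] at hr
    have h := Ideal.mem_map_of_mem (X.presheaf.germ W' x hxW').hom hr
    rw [Ideal.map_map] at h
    refine (show stI D W hx = _ from ?_).ge h
    unfold stI
    congr 1
    exact congrArg CommRingCat.Hom.hom (X.presheaf.germ_res (homOfLE hW'W) x hxW').symm
  · obtain ⟨b, rfl⟩ := Submodule.mem_span_singleton.1 ((H23.UnitSec.span_one x).ge (Submodule.mem_top : v ∈ ⊤))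
    rw [smul_comm]
    refine Submodule.smul_mem _ b ?_
    unfold stI at hr
    induction hr using Submodule.span_induction with
    | zero => rw [zero_smul]; exact zero_mem _
    | add p q _ _ hp hq => rw [add_smul]; exact add_mem hp hq
    | smul c p _ hp => rw [smul_eq_mul, mul_smul]; exact Submodule.smul_mem _ c hp
    | mem p hp =>
      obtain ⟨a, ha, rfl⟩ := hp
      have hS := (IntSym.shortExact_toSubscheme D).map_of_exact Φ
      refine (ShortComplex.moduleCat_exact_iff _).1 hS.exact _ ?_
      change Φ.map (ClSub.toSubscheme D) (X.presheaf.germ W.1 x hx a • H23.UnitSec.one x) = 0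
      rw [H23.UnitSec.germ_smul_one]
      refine (DerSch.stalkFunctor_map_germ x (ClSub.toSubscheme D) W.1 hx (H23.UnitSec.ofFn a)).trans ?_
      rw [show (ClSub.toSubscheme D).app W.1 (H23.UnitSec.ofFn a) = 0 from
        (IntSym.QuotTensor.toSub_app_eq_zero D W.2 a).2 ha]
      exact map_zero _

theorem hom_ext_stalk {M N : X.Modules} (a b : M ⟶ N)
    (h : ∀ x, (DerSch.stalkFunctor X x).map a = (DerSch.stalkFunctor X x).map b) : a = b := by
  refine Scheme.Modules.hom_ext _ _ fun U => ?_
  ext s
  refine TopCat.Presheaf.section_ext ⟨N.presheaf, N.isSheaf⟩ U _ _ fun y hy => ?_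
  exact (DerSch.stalkFunctor_map_germ y a U hy s).symm.trans
    ((congrArg (fun φ => (ModuleCat.Hom.hom φ) (M.presheaf.germ U y hy s)) (h y)).trans
      (DerSch.stalkFunctor_map_germ y b U hy s))

/-- The product map of two ideal modules. -/
def mulHom (I J : X.IdealSheafData) :
    CohB1.tensorMod (ClSub.idealMod I) (ClSub.idealMod J) ⟶ Coh.structureModule X :=
  (DCoh.tensorBi.obj (ClSub.idealMod I)).map (ClSub.idealModι J) ≫
    (KFlatLib.tensorUnitIso (ClSub.idealMod I)).hom ≫ ClSub.idealModι I

/-- The image of the product map in a stalk. -/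
theorem range_mulHom (I J : X.IdealSheafData) (W : X.affineOpens) {x : X} (hx : x ∈ W.1) :
    LinearMap.range ((DerSch.stalkFunctor X x).map (mulHom I J)).hom =
      stI (I * J) W hx • (⊤ : Submodule (X.presheaf.stalk x) ((DerSch.stalkFunctor X x).obj (Coh.structureModule X))) := by
  let Φ := DerSch.stalkFunctor X x
  let A := ClSub.idealMod I
  let φ := ClSub.idealModι J
  have h := KFlatLib.stalkTensorIso_naturality (x := x) (𝟙 A) φ
  rw [(DerSch.stalkFunctor X x).map_id, CategoryTheory.Functor.map_id, NatTrans.id_app,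
    Category.id_comp, MonoidalCategory.id_tensorHom] at h
  have h' : ((KFlatLib.stalkTensorIso x A (Coh.structureModule X)).toLinearEquiv.toLinearMap).comp
      ((Φ.map φ).hom.lTensor (Φ.obj A)) = (Φ.map ((DCoh.tensorBi.obj A).map φ)).hom.comp
        (KFlatLib.stalkTensorIso x A (ClSub.idealMod J)).toLinearEquiv.toLinearMap :=
    LinearMap.ext fun t => congrArg (fun ψ => ψ.hom t) h
  have hT : LinearMap.range (Φ.map ((DCoh.tensorBi.obj A).map φ)).hom = stI J W hx • ⊤ := by
    have h1 := congrArg LinearMap.range h'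
    rw [LinearMap.range_comp, LinearMap.range_comp, LinearEquiv.range, Submodule.map_top,
      range_lTensor_eq_smul_top _ _ (range_idealModι J W hx), Submodule.map_smul'', Submodule.map_top,
      LinearEquiv.range] at h1
    exact h1.symm
  have hu : LinearMap.range (Φ.map (KFlatLib.tensorUnitIso A).hom).hom = ⊤ :=
    LinearMap.range_eq_top.2 (ConcreteCategory.bijective_of_isIso (Φ.map (KFlatLib.tensorUnitIso A).hom)).2
  rw [mulHom, Functor.map_comp, Functor.map_comp, ModuleCat.hom_comp, LinearMap.range_comp,
    hT, Submodule.map_smul'', Submodule.map_top, ModuleCat.hom_comp, LinearMap.range_comp, hu,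
    Submodule.map_top, range_idealModι I W hx, ← Submodule.mul_smul]
  congr 1
  rw [mul_comm]
  simp only [stI]
  rw [Scheme.IdealSheafData.ideal_mul, Pi.mul_apply, Ideal.map_mul]

/-- `I ⊗ J ≅ IJ` by the product map, for an invertible `I`. -/
theorem exists_idealMod_mul_iso (I J : X.IdealSheafData) (hI : PicF.IsInvertible (ClSub.idealMod I)) :
    ∃ e : CohB1.tensorMod (ClSub.idealMod I) (ClSub.idealMod J) ≅ ClSub.idealMod (I * J),
      e.hom ≫ ClSub.idealModι (I * J) = mulHom I J := by
  haveI := isEquivalence_tensorLeft hI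
  haveI : Mono (ClSub.idealModι I) := inferInstanceAs (Mono (kernel.ι (ClSub.toSubscheme I)))
  haveI : Mono (ClSub.idealModι J) := inferInstanceAs (Mono (kernel.ι (ClSub.toSubscheme J)))
  haveI : Mono (mulHom I J) := mono_comp _ _
  have hrange : ∀ x : X, LinearMap.range ((DerSch.stalkFunctor X x).map (mulHom I J)).hom =
      LinearMap.range ((DerSch.stalkFunctor X x).map (ClSub.idealModι (I * J))).hom := fun x => by
    obtain ⟨_, ⟨W, hW, rfl⟩, hx, -⟩ := X.isBasis_affineOpens.exists_subset_of_mem_open
      (Set.mem_univ x) isOpen_univ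
    rw [range_mulHom I J ⟨W, hW⟩ hx, range_idealModι (I * J) ⟨W, hW⟩ hx]
  have hzero : mulHom I J ≫ ClSub.toSubscheme (I * J) = 0 := by
    refine hom_ext_stalk _ _ fun x => ?_
    rw [Functor.map_comp, Functor.map_zero]
    ext v
    obtain ⟨w, hw⟩ := (hrange x).le (LinearMap.mem_range_self _ v)
    change (DerSch.stalkFunctor X x).map (ClSub.toSubscheme (I * J))
      ((DerSch.stalkFunctor X x).map (mulHom I J) v) = 0
    rw [show (DerSch.stalkFunctor X x).map (mulHom I J) v =
      (DerSch.stalkFunctor X x).map (ClSub.idealModι (I * J)) w from hw.symm, ← ConcreteCategory.comp_apply,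
      ← Functor.map_comp, ClSub.idealModι, kernel.condition, Functor.map_zero]
    rfl
  let l : CohB1.tensorMod (ClSub.idealMod I) (ClSub.idealMod J) ⟶ ClSub.idealMod (I * J) :=
    kernel.lift _ (mulHom I J) hzero
  have hl : l ≫ ClSub.idealModι (I * J) = mulHom I J := kernel.lift_ι _ _ _
  haveI : Mono (ClSub.idealModι (I * J)) := inferInstanceAs (Mono (kernel.ι (ClSub.toSubscheme (I * J))))
  haveI : Mono (l ≫ ClSub.idealModι (I * J)) := hl.symm ▸ inferInstance
  haveI : Mono l := mono_of_mono l (ClSub.idealModι (I * J))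
  have hsurj : ∀ x : X, Function.Surjective ((DerSch.stalkFunctor X x).map l) := fun x w => by
    obtain ⟨v, hv⟩ := (hrange x).ge (LinearMap.mem_range_self
      ((DerSch.stalkFunctor X x).map (ClSub.idealModι (I * J))).hom w)
    refine ⟨v, (ModuleCat.mono_iff_injective ((DerSch.stalkFunctor X x).map (ClSub.idealModι (I * J)))).1
      inferInstance ?_⟩
    rw [← ConcreteCategory.comp_apply, ← Functor.map_comp, hl]
    exact hv
  haveI : Epi l := by
    refine Preadditive.epi_of_isZero_cokernel l (CurveCohLib.isZero_of_subsingleton_stalks fun x => ?_)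
    let Φ := DerSch.stalkFunctor X x
    haveI : Epi (Φ.map l) := (ModuleCat.epi_iff_surjective _).2 (hsurj x)
    have hz : IsZero (Φ.obj (cokernel l)) := by
      refine IsZero.of_iso (isZero_cokernel_of_epi (Φ.map l)) (PreservesCokernel.iso Φ l)
    exact ModuleCat.subsingleton_of_isZero hz
  haveI : IsIso l := isIso_of_mono_of_epi l
  exact ⟨asIso l, hl⟩

/-- `I ⊗ J ≅ IJ` for an invertible `I` and an invertible `J`. -/
theorem nonempty_idealMod_mul_iso (I J : X.IdealSheafData) (hI : PicF.IsInvertible (ClSub.idealMod I)) :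
    Nonempty (CohB1.tensorMod (ClSub.idealMod I) (ClSub.idealMod J) ≅ ClSub.idealMod (I * J)) :=
  let ⟨e, _⟩ := exists_idealMod_mul_iso I J hI
  ⟨e⟩

/-- The powers of an invertible ideal are invertible, with the expected classes. -/
theorem cl_idealMod_pow (I : X.IdealSheafData) (hI : PicF.IsInvertible (ClSub.idealMod I)) :
    ∀ n : ℕ, PicF.IsInvertible (ClSub.idealMod (I ^ (n + 1))) ∧
      PicF.cl (ClSub.idealMod (I ^ (n + 1))) = PicF.cl (ClSub.idealMod I) ^ (n + 1)
  | 0 => by rw [zero_add, pow_one, pow_one]; exact ⟨hI, rfl⟩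
  | n + 1 => by
    obtain ⟨h1, h2⟩ := cl_idealMod_pow I hI n
    obtain ⟨e⟩ := nonempty_idealMod_mul_iso (I ^ (n + 1)) I h1
    rw [← pow_succ] at e
    refine ⟨H23.PicMul.isInvertible_of_iso e (InvX.isInvertible_tensorMod h1 hI), ?_⟩
    rw [← cl_eq_iff.2 ⟨e⟩, cl_tensor, h2, ← pow_succ]

end Groth.Agent.DepthTwist
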