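import Groth.Agent.DepthTwist.Main
import Groth.Agent.Lib.PnDualExtPn
import Groth.Agent.LC.PdRegular
import Groth.Agent.Alg6.LocLoc
import Groth.Agent.CurveEmbed.Conic
import Groth.Agent.KFlatLib.Scheme.ClosedPush
import Groth.Agent.KFlatLib.Scheme.ProjModule
import Groth.Agent.QCoh.DevissageP
import Groth.Agent.QCoh.AffineCohom
import Groth.Agent.AmpleX.Proj
import Groth.Agent.S10829

/-!
# Negative twists of a coherent module of given depth
-/

set_option linter.style.haveILetI false
set_option backward.isDefEq.respectTransparency false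
set_option backward.isDefEq.respectTransparency.types false

universe u

open CategoryTheory CategoryTheory.Limits AlgebraicGeometry TopologicalSpace Opposite MonoidalCategory
open Groth.Agent.H23.PicMul

noncomputable section

namespace Groth.Agent.DepthTwist

open Groth.Agent

variable {X P : Scheme.{u}}

/-- Modules of depth above `p` at the closed points of a closed subscheme of projective space have
no cohomology of degree `p` in high negative twists. -/
theorem exists_vanishing_pn (k : Type u) [Field k] (N : ℕ) (i : X ⟶ CohB1.ProjSpace N k)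
    [IsClosedImmersion i] (F : X.Modules) (hF : Coh.IsCoh F)
    (p : ℕ) (hdepth : ∀ x : X, IsClosed ({x} : Set X) → ((p + 1 : ℕ) : ℕ∞) ≤ LocCoh.depth (X.presheaf.stalk x) (F.presheaf.stalk x))
    {O1 : X.Modules} (hO : Nonempty ((Scheme.Modules.pullback i).obj (Twist.twistProjSpace N k 1) ≅ O1))
    {O1' : X.Modules} (hinv : PicF.cl O1 * PicF.cl O1' = 1) :
    ∃ n₀, ∀ n, n₀ ≤ n → Subsingleton (Coh.HH X (CohB1.tensorMod F (CohB1.tensorPow O1' n)) p) := by
  classical
  let P := CohB1.ProjSpace N k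
  letI : P.Over (Spec (CommRingCat.of k)) := ⟨CohB1.ProjSpace.toSpec N k⟩
  haveI : IsProper (P ↘ Spec (CommRingCat.of k)) := PnCoh.Chow.isProper_toSpec N k
  haveI : IsNoetherian P := Proj16.isNoetherian_proj _
  haveI : IsLocallyNoetherian X := LocallyOfFiniteType.isLocallyNoetherian i
  haveI : HasExt.{u} P.Modules := IsGrothendieckAbelian.hasExt _
  haveI : IsIntegral P := H23.PnChart.isIntegral_projSpace N k
  haveI : JacobsonSpace P := LocallyOfFiniteType.jacobsonSpace (P ↘ Spec (CommRingCat.of k))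
  haveI : Smooth (P ↘ Spec (CommRingCat.of k)) := CurveEmbed.smooth_toSpec N k
  haveI : JacobsonSpace X := .of_isClosedEmbedding i.isClosedEmbedding
  let G := (Scheme.Modules.pushforward i).obj F
  have hG : Coh.IsCoh G := QCoh.isCoh_push i hF
  have hL : CohB1.IsAmple (Twist.twistProjSpace N k 1) := by
    refine AmpleX.isAmple_twist_one (𝒜 := CohB1.polyGrading N k) (Finset.univ.image fun j : Fin (N + 1) => MvPolynomial.X j) ?_ ?_
    · intro g hg
      obtain ⟨j, -, rfl⟩ := Finset.mem_image.1 hg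
      exact ProjPt.X_mem j
    · refine eq_top_iff.2 fun y _ => ?_
      obtain ⟨j, hj⟩ := Opens.mem_iSup.1 ((AmpleEmbed.iSup_basicOpen_X N k).ge (trivial : y ∈ (⊤ : Opens _)))
      exact Opens.mem_iSup.2 ⟨⟨MvPolynomial.X j, Finset.mem_image.2 ⟨j, Finset.mem_univ _, rfl⟩⟩, hj⟩
  obtain ⟨L', hL', ⟨e⟩⟩ := H23.PicInv.exists_inverse hL.1
  have hinv' : PicF.cl (Twist.twistProjSpace N k 1) * PicF.cl L' = 1 := by
    rw [← cl_tensor, H23.PicMul.one_def]; exact cl_eq_iff.2 ⟨e⟩
  let ω := Twist.twistProjSpace N k (-((N : ℤ) + 1))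
  have hω : PicF.IsInvertible ω :=
    PnCoh.Finite.isInvertible_twist (fun j : ULift.{u} (Fin (N + 1)) => MvPolynomial.X j.down)
      (fun j => ProjPt.X_mem j.down) (by
        refine top_le_iff.1 ((AmpleEmbed.iSup_basicOpen_X N k).ge.trans (iSup_le fun j => ?_))
        exact le_iSup_of_le (ULift.up j) le_rfl) _
  have hdual : ∀ K : P.Modules, Coh.IsCoh K → ∀ q, q < N →
      Subsingleton (Abelian.Ext.{u} K ω (N - q)) → Subsingleton (Coh.HH P K q) := fun K hK q hp h => by
    obtain ⟨ε⟩ := (PnDual.serre_duality (PnDual.goodPn_of_isCoh hK) (N - q)).1 (Nat.sub_le _ _)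
    haveI := h
    haveI hd : Subsingleton (Module.Dual k (Coh.HH P K (N - (N - q)))) := ε.symm.toEquiv.subsingleton
    have hp' : N - (N - q) = q := by omega
    rw [hp'] at hd
    haveI : Module.Free k (Coh.HH P K q) := Module.Free.of_divisionRing k _
    exact subsingleton_of_forall_eq 0 fun v => (Module.forall_dual_apply_eq_zero_iff k v).1 fun g => by
      rw [Subsingleton.elim g 0]; rfl
  have hdim : ∀ y : P, IsClosed ({y} : Set P) →
      IsRegularLocalRing (P.presheaf.stalk y) ∧ ringKrullDim (P.presheaf.stalk y) = N := fun y hy =>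
    ⟨SmoothReg.isRegularLocalRing_stalk_of_mem_smoothLocus (P ↘ Spec (CommRingCat.of k))
      (by rw [(P ↘ Spec (CommRingCat.of k)).smoothLocus_eq_top_iff.2 inferInstance]; trivial),
      (SmoothReg.ringKrullDim_stalk_closedPoint (P ↘ Spec (CommRingCat.of k)) hy).trans (S10829.result k N)⟩
  have hd : ∀ y : P, IsClosed ({y} : Set P) → ((p + 1 : ℕ) : ℕ∞) ≤ LocCoh.depth (P.presheaf.stalk y) (G.presheaf.stalk y) :=
    fun y hy => by
    by_cases hr : y ∈ Set.range i
    · obtain ⟨x, rfl⟩ := hr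
      rw [depth_stalk_push]
      refine hdepth x ?_
      have h : ({x} : Set X) = i ⁻¹' {i x} := by
        ext z
        exact ⟨fun hz => congrArg i hz, fun hz => i.isClosedEmbedding.injective hz⟩
      rw [h]
      exact hy.preimage i.continuous
    · haveI : Subsingleton (G.presheaf.stalk y) :=
        AddCommGrpCat.subsingleton_of_isZero (KFlatLib.isZero_stalk_push i y hr F)
      exact le_top.trans_eq (if_pos (Subsingleton.elim _ _)).symm
  have hfin : ∀ y : P, Module.Finite (P.presheaf.stalk y) (G.presheaf.stalk y) := fun y =>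
    QCoh.finite_stalk_of_isFT hG.1 hG.2 y
  have key : ∃ n₀, ∀ n, n₀ ≤ n → Subsingleton (Coh.HH P (CohB1.tensorMod G (CohB1.tensorPow L' n)) p) := by
    rcases Nat.lt_or_ge N (p + 1) with hN | hN
    · have hz : IsZero G := CurveCohLib.isZero_of_subsingleton_stalks fun z => by
        by_contra hz
        obtain ⟨y, hyz, hy⟩ := nonempty_inter_closedPoints
          ⟨z, (show z ∈ CohB1.support G from hz)⟩ (QCoh.isClosed_support_of_isFT hG.1 hG.2).isLocallyClosed
        obtain ⟨hreg, hdy⟩ := hdim y (mem_closedPoints_iff.1 hy)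
        haveI := hreg
        haveI := hfin y
        haveI : Nontrivial (G.presheaf.stalk y) := not_subsingleton_iff_nontrivial.1 hyz
        have h1 := (LC.depth_le_supportDim (R := P.presheaf.stalk y) (M := G.presheaf.stalk y)).trans
          (Module.supportDim_le_ringKrullDim _ _)
        rw [hdy] at h1
        have h2 := (WithBot.coe_le_coe.2 (hd y (mem_closedPoints_iff.1 hy))).trans h1
        have h3 : p + 1 ≤ N := by exact_mod_cast h2
        omega
      refine ⟨0, fun n _ => ?_⟩
      haveI := AmpleVan.isEquivalence_tw (InvX.isInvertible_tensorPow hL' n)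
      haveI : (AmpleVan.tw (CohB1.tensorPow L' n)).Additive := Functor.additive_of_preserves_binary_products _
      exact Euler.subsingleton_HH_of_isZero ((AmpleVan.tw (CohB1.tensorPow L' n)).map_isZero hz) p
    · have hpd : PdLT G (N - (p + 1) + 1) := fun y hy => by
        obtain ⟨hreg, hdy⟩ := hdim y hy
        haveI := hreg
        haveI := hfin y
        have hle : (N : ℕ∞) ≤ LocCoh.depth (P.presheaf.stalk y) (G.presheaf.stalk y) + ((N - (p + 1) : ℕ) : ℕ∞) := by
          refine le_trans ?_ (add_le_add_left (hd y hy) _)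
          exact_mod_cast (by omega : N ≤ p + 1 + (N - (p + 1)))
        exact LC.pdLE_of_le_depth (P.presheaf.stalk y) N hdy (G.presheaf.stalk y) (N - (p + 1)) hle
      exact exists_vanishing_of_pd k hL hL' hinv' hω hdual (N - (p + 1)) hG hpd p (by omega)
  obtain ⟨n₀, hn₀⟩ := key
  refine ⟨n₀, fun n hn => ?_⟩
  let M := CohB1.tensorPow L' n
  have hM : PicF.IsInvertible M := InvX.isInvertible_tensorPow hL' n
  obtain ⟨u⟩ : Nonempty ((Scheme.Modules.pullback i).obj M ≅ CohB1.tensorPow O1' n) := cl_eq_iff.1 (by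
    have hmul : PicF.cl O1 * PicF.cl ((Scheme.Modules.pullback i).obj L') = 1 := by
      rw [← cl_eq_iff.2 hO]
      show PicF.pullCl i (PicF.cl (Twist.twistProjSpace N k 1)) * PicF.pullCl i (PicF.cl L') = 1
      rw [← pullCl_mul, hinv', pullCl_one]
    show PicF.pullCl i (PicF.cl (CohB1.tensorPow L' n)) = _
    rw [cl_tensorPow, pullCl_pow, cl_tensorPow,
      show PicF.pullCl i (PicF.cl L') = PicF.cl O1' from (left_inv_eq_right_inv
        (by rw [mul_comm]; exact hinv) hmul).symm])
  have hq : Coh.IsQCoh (CohB1.tensorMod F ((Scheme.Modules.pullback i).obj M)) :=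
    KFlatLib.isQCoh_tensor hF.1 (ProjUPX.isQCoh_of_isInvertible (PicClLib.isInvertible_pullback i hM))
  obtain ⟨ε⟩ := QCoh.HH_push_of_isAffineHom i hq p
  haveI hproj := KFlatLib.isIso_projMod_of_isClosedImmersion i F M
  have h1 := QCoh.subsingleton_HH_of_iso (asIso (KFlatLib.projMod i F M)) p (hn₀ n hn)
  have h2 : Subsingleton (Coh.HH X (CohB1.tensorMod F ((Scheme.Modules.pullback i).obj M)) p) :=
    @Equiv.subsingleton _ _ ε.toEquiv h1
  exact QCoh.subsingleton_HH_of_iso ((DCoh.tensorBi.obj F).mapIso u) p h2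

/-- Negative powers of an ample module kill the cohomology of degree `p` of a module of depth above `p`. -/
theorem exists_vanishing_deg (k : Type u) [Field k] [X.Over (Spec (CommRingCat.of k))]
    [IsProper (X ↘ Spec (CommRingCat.of k))] {L M : X.Modules} (hL : CohB1.IsAmple L)
    (hM : ClSub.IsInverseOf L M) (F : X.Modules) (hF : Coh.IsCoh F)
    (p : ℕ) (hdepth : ∀ x : X, IsClosed ({x} : Set X) → ((p + 1 : ℕ) : ℕ∞) ≤ LocCoh.depth (X.presheaf.stalk x) (F.presheaf.stalk x)) :
    ∃ m₀ : ℕ, ∀ m : ℕ, m₀ ≤ m →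
      Subsingleton (Coh.HH X (CohB1.tensorMod F (CohB1.tensorPow M m)) p) := by
  classical
  rcases isEmpty_or_nonempty X with hX | hX
  · exact ⟨0, fun m _ => Euler.subsingleton_HH_of_isZero
      (CurveCohLib.isZero_of_subsingleton_stalks fun z => hX.elim z) p⟩
  obtain ⟨N, r, h1, h2, ⟨d, hd, hiso⟩, -⟩ :=
    AmpleEmbed.exists_immersion_of_section (X ↘ Spec (CommRingCat.of k)) hL 0
  haveI : IsProper (CohB1.ProjSpace.toSpec N k) := PnCoh.Chow.isProper_toSpec N k
  haveI : IsProper (r ≫ CohB1.ProjSpace.toSpec N k) := by rw [h2]; infer_instance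
  haveI : IsProper r := IsProper.of_comp r (CohB1.ProjSpace.toSpec N k)
  haveI : IsClosedImmersion r := .of_isPreimmersion _ r.isClosedMap.isClosed_range
  haveI : IsLocallyNoetherian X := LocallyOfFiniteType.isLocallyNoetherian (X ↘ Spec (CommRingCat.of k))
  have hLM : PicF.cl L * PicF.cl M = 1 := by
    rw [← cl_tensor, H23.PicMul.one_def]; exact cl_eq_iff.2 hM
  obtain ⟨D, hD, ⟨eD⟩⟩ := H23.PicInv.exists_inverse hL.1
  have hLD : PicF.cl L * PicF.cl D = 1 := by
    rw [← cl_tensor, H23.PicMul.one_def]; exact cl_eq_iff.2 ⟨eD⟩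
  have hMi : PicF.IsInvertible M := by
    obtain ⟨eDM⟩ : Nonempty (D ≅ M) :=
      cl_eq_iff.1 (left_inv_eq_right_inv (by rw [mul_comm]; exact hLD) hLM)
    exact H23.PicMul.isInvertible_of_iso eDM hD
  have hinv : PicF.cl (CohB1.tensorPow L d) * PicF.cl (CohB1.tensorPow M d) = 1 := by
    rw [cl_tensorPow, cl_tensorPow, ← mul_pow, hLM, one_pow]
  have H : ∀ s : Fin d, ∃ n₀, ∀ n, n₀ ≤ n → Subsingleton (Coh.HH X
      (CohB1.tensorMod (CohB1.tensorMod F (CohB1.tensorPow M s)) (CohB1.tensorPow (CohB1.tensorPow M d) n)) p) :=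
    fun s => by
    refine exists_vanishing_pn k N r _
      (AmpleVan.isCoh_tensor hF (CurveDeg.isCoh_of_isInvertible (InvX.isInvertible_tensorPow hMi s)))
      p (fun x hx => ?_) (hiso hX) hinv
    rw [depth_stalk_twist F (InvX.isInvertible_tensorPow hMi s) x]
    exact hdepth x hx
  choose n₀ hn₀ using H
  refine ⟨(Finset.univ.sup n₀ + 1) * d, fun m hm => ?_⟩
  have hs : m % d < d := Nat.mod_lt _ hd
  have hq : n₀ ⟨m % d, hs⟩ ≤ m / d := by
    refine le_trans (Finset.le_sup (f := n₀) (Finset.mem_univ _)) ?_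
    rw [Nat.le_div_iff_mul_le hd]
    calc _ ≤ (Finset.univ.sup n₀ + 1) * d := Nat.mul_le_mul_right _ (Nat.le_succ _)
      _ ≤ m := hm
  obtain ⟨u⟩ : Nonempty (CohB1.tensorMod (CohB1.tensorPow M (m % d))
      (CohB1.tensorPow (CohB1.tensorPow M d) (m / d)) ≅ CohB1.tensorPow M m) := cl_eq_iff.1 (by
    rw [cl_tensor, cl_tensorPow, cl_tensorPow, cl_tensorPow, cl_tensorPow, ← pow_mul, ← pow_add,
      Nat.mod_add_div])
  exact QCoh.subsingleton_HH_of_iso
    (((AmpleVan.twComp _ _).app F) ≪≫ (DCoh.tensorBi.obj F).mapIso u) p (hn₀ ⟨m % d, hs⟩ _ hq)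

/-- Negative powers of an ample module kill all cohomology of degree at most `n` of a module of depth
above `n`. -/
theorem exists_vanishing_le (k : Type u) [Field k] [X.Over (Spec (CommRingCat.of k))]
    [IsProper (X ↘ Spec (CommRingCat.of k))] {L M : X.Modules} (hL : CohB1.IsAmple L)
    (hM : ClSub.IsInverseOf L M) (F : X.Modules) (hF : Coh.IsCoh F) (n : ℕ)
    (hdepth : ∀ x : X, IsClosed ({x} : Set X) → ((n + 1 : ℕ) : ℕ∞) ≤ LocCoh.depth (X.presheaf.stalk x) (F.presheaf.stalk x)) :
    ∃ m₀ : ℕ, ∀ m : ℕ, m₀ ≤ m → ∀ i, i ≤ n →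
      Subsingleton (Coh.HH X (CohB1.tensorMod F (CohB1.tensorPow M m)) i) := by
  have H : ∀ i : Fin (n + 1), ∃ m₀, ∀ m, m₀ ≤ m → Subsingleton (Coh.HH X (CohB1.tensorMod F (CohB1.tensorPow M m)) i.1) :=
    fun i => exists_vanishing_deg k hL hM F hF i.1 fun x hx =>
      le_trans (by exact_mod_cast Nat.succ_le_succ (Nat.lt_succ_iff.1 i.2)) (hdepth x hx)
  choose m₀ hm₀ using H
  exact ⟨Finset.univ.sup m₀, fun m hm i hi =>
    hm₀ ⟨i, Nat.lt_succ_of_le hi⟩ m (le_trans (Finset.le_sup (f := m₀) (Finset.mem_univ _)) hm)⟩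

end Groth.Agent.DepthTwist
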