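import Groth.Agent.DepthTwist.LocFree
import Mathlib.Algebra.Category.ModuleCat.ProjectiveDimension

/-!
# Negative twists and projective dimension of stalks at closed points
-/

set_option linter.style.haveILetI false
set_option backward.isDefEq.respectTransparency false
set_option backward.isDefEq.respectTransparency.types false

universe u

open CategoryTheory CategoryTheory.Limits AlgebraicGeometry TopologicalSpace Opposite MonoidalCategory
open Groth.Agent.H23.PicMul

attribute [local instance] Groth.Agent.QCoh.hasFiniteBiproducts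

noncomputable section

namespace Groth.Agent.DepthTwist

open Groth.Agent Groth.Agent.AmpleVan

variable {X : Scheme.{u}}

/-- The stalks at closed points have projective dimension less than `j`. -/
def PdLT (G : X.Modules) (j : ℕ) : Prop :=
  ∀ x : X, IsClosed ({x} : Set X) → HasProjectiveDimensionLT ((DerSch.stalkFunctor X x).obj G) j

/-- Projective stalks at closed points give a finite locally free module. -/
theorem isFinLocFree_of_pdLT [IsLocallyNoetherian X] [JacobsonSpace X] {G : X.Modules} (hG : Coh.IsCoh G)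
    (h : PdLT G 1) : FlatMod.IsFinLocFree G := by
  intro x
  obtain ⟨y, hyx, hy⟩ := nonempty_inter_closedPoints (Z := closure ({x} : Set X))
    ⟨x, subset_closure rfl⟩ isClosed_closure.isLocallyClosed
  have hy' : IsClosed ({y} : Set X) := mem_closedPoints_iff.1 hy
  haveI : Module.Finite (X.presheaf.stalk y) (G.presheaf.stalk y) :=
    QCoh.finite_stalk_of_isFT hG.1 hG.2 y
  haveI hpd := h y hy'
  haveI hP : Projective ((DerSch.stalkFunctor X y).obj G) :=
    projective_iff_hasProjectiveDimensionLT_one.2 hpd
  haveI : Module.Projective (X.presheaf.stalk y) (G.presheaf.stalk y) :=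
    (IsProjective.iff_projective (R := X.presheaf.stalk y) ((DerSch.stalkFunctor X y).obj G)).2 hP
  haveI : Module.Free (X.presheaf.stalk y) (G.presheaf.stalk y) := Module.free_of_flat_of_isLocalRing
  obtain ⟨U, n, hyU, hU⟩ := QCoh.exists_free_nhd_of_free_stalk (QCoh.isCoh_iff_isFP.1 hG) y
  refine ⟨U, n, ?_, hU⟩
  exact (specializes_iff_mem_closure.2 hyx).mem_open U.2 hyU

variable (k : Type u) [Field k] [X.Over (Spec (CommRingCat.of k))] [IsProper (X ↘ Spec (CommRingCat.of k))]
  [HasExt.{u} X.Modules]

include k in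
/-- Negative twists have no cohomology in degree `p` when `p + pd < N`. -/
theorem exists_vanishing_of_pd {L L' ω : X.Modules} (hL : CohB1.IsAmple L) (hL' : PicF.IsInvertible L')
    (hinv : PicF.cl L * PicF.cl L' = 1) (hω : PicF.IsInvertible ω) {N : ℕ}
    (hdual : ∀ K : X.Modules, Coh.IsCoh K → ∀ p, p < N →
      Subsingleton (Abelian.Ext.{u} K ω (N - p)) → Subsingleton (Coh.HH X K p)) :
    ∀ (j : ℕ) {G : X.Modules}, Coh.IsCoh G → PdLT G (j + 1) → ∀ p, p + j < N →
      ∃ n₀, ∀ n, n₀ ≤ n → Subsingleton (Coh.HH X (CohB1.tensorMod G (CohB1.tensorPow L' n)) p) := by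
  haveI : IsLocallyNoetherian X := LocallyOfFiniteType.isLocallyNoetherian (X ↘ Spec (CommRingCat.of k))
  haveI : CompactSpace X := hL.2.1
  haveI := AmpleX.isSeparated_of_isAmple hL
  haveI : JacobsonSpace X := LocallyOfFiniteType.jacobsonSpace (X ↘ Spec (CommRingCat.of k))
  intro j
  induction j with
  | zero =>
    intro G hG hpd p hp
    obtain ⟨n₀, hn⟩ := exists_vanishing_finLocFree k hL hL' hinv hω hdual (isFinLocFree_of_pdLT hG hpd)
    exact ⟨n₀, fun n h => hn n h p (by omega)⟩
  | succ j ih =>
    intro G hG hpd p hp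
    obtain ⟨m, hm⟩ := AmpleX.eventually_generated hL hG.1 hG.2
    obtain ⟨G', φ, ι, s, hs⟩ := hm m le_rfl
    have hG' : Coh.IsCoh G' := SheafHomX.isCoh_of_iso φ.symm
      (AmpleVan.isCoh_tensor hG (AmpleVan.isCoh_invertible (InvX.isInvertible_tensorPow hL.1 m)))
    obtain ⟨c, f, hf⟩ := exists_fin_generatedBy hG' s hs
    obtain ⟨g, hg⟩ := InvX.exists_epi_freeMod hf
    let P := CohB1.tensorPow L' m
    have hP : PicF.IsInvertible P := InvX.isInvertible_tensorPow hL' _
    haveI := isEquivalence_tw hP
    obtain ⟨ψ⟩ : Nonempty ((tw P).obj G' ≅ G) := cl_eq_iff.1 (by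
      show PicF.cl (CohB1.tensorMod G' P) = _
      rw [cl_tensor, cl_eq_iff.2 ⟨φ⟩, cl_tensor, cl_tensorPow, cl_tensorPow, mul_assoc, ← mul_pow, hinv,
        one_pow, mul_one])
    let q₀ : (⨁ fun _ : Fin c => Coh.structureModule X) ⟶ G' :=
      (biproduct.isoCoproduct (fun _ : Fin c => Coh.structureModule X)).hom ≫ g
    haveI : Epi q₀ := epi_comp _ g
    let q : twSum P c ⟶ G := (tw P).map q₀ ≫ ψ.hom
    haveI : Epi q := epi_comp _ _
    have hE : FlatMod.IsFinLocFree (twSum P c) := isFinLocFree_twSum hP c
    have hK : Coh.IsCoh (kernel q) := QCoh.isCoh_kernel (CurveDeg.isCoh_of_isFinLocFree hE) hG q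
    let S : ShortComplex X.Modules := ShortComplex.mk (kernel.ι q) q (kernel.condition q)
    have hS : S.ShortExact := { exact := ShortComplex.exact_of_f_is_kernel _ (kernelIsKernel q) }
    have hpdK : PdLT (kernel q) (j + 1) := fun x hx => by
      let F := DerSch.stalkFunctor X x
      have h2 : HasProjectiveDimensionLT (F.obj (twSum P c)) 1 := by
        haveI : Module.Free (X.presheaf.stalk x) ((twSum P c).presheaf.stalk x) :=
          QCoh.free_stalk_of_isFinLocFree hE x
        haveI : Module.Free (X.presheaf.stalk x) (F.obj (twSum P c)) := this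
        exact projective_iff_hasProjectiveDimensionLT_one.1
          ((IsProjective.iff_projective (R := X.presheaf.stalk x) (F.obj (twSum P c))).1 inferInstance)
      haveI := h2
      exact (hS.map_of_exact F).hasProjectiveDimensionLT_X₁ (j + 1)
        (hasProjectiveDimensionLT_of_ge (F.obj (twSum P c)) 1 (j + 1) (by omega)) (hpd x hx)
    obtain ⟨a, ha⟩ := ih hK hpdK (p + 1) (by omega)
    obtain ⟨b, hb⟩ := exists_vanishing_finLocFree k hL hL' hinv hω hdual hE
    refine ⟨max a b, fun n hn => ?_⟩
    let T := tw (CohB1.tensorPow L' n)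
    haveI : T.IsEquivalence := isEquivalence_tw (InvX.isInvertible_tensorPow hL' n)
    haveI : T.Additive := Functor.additive_of_preserves_binary_products T
    exact PnCoh.Finite.subsingleton_HH_X₃ (hS.map_of_exact T) p
      (hb n (le_of_max_le_right hn) p (by omega)) (ha n (le_of_max_le_left hn))

end Groth.Agent.DepthTwist
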