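import Groth.Agent.AmpleVan.AffineCrit
import Groth.Agent.Lib.PnDualSheafHom
import Groth.Agent.SheafHomX.Coherent
import Groth.Agent.SheafHomX.Extra

/-!
# Negative twists of finite locally free modules have no cohomology below the dimension

For an ambient with a duality `Ext^i(K, ω) ↪ H^{N-i}(K)^∨`, this reduces to Serre vanishing.
-/

set_option linter.style.haveILetI false
set_option backward.isDefEq.respectTransparency false
set_option backward.isDefEq.respectTransparency.types false

universe u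

open CategoryTheory CategoryTheory.Limits AlgebraicGeometry TopologicalSpace Opposite MonoidalCategory
open Groth.Agent.H23.PicMul

noncomputable section

namespace Groth.Agent.DepthTwist

open Groth.Agent Groth.Agent.AmpleVan

variable {X : Scheme.{u}}

/-- `Hom(P ⊗ K, -) ≅ Hom(K, -) ⊗ P'` for `P'` inverse to `P`. -/
theorem nonempty_hom_twist_iso {P P' : X.Modules} (K : X.Modules)
    (h : PicF.cl P * PicF.cl P' = 1) :
    Nonempty (SheafHomX.hom ((tw K).obj P) ≅ SheafHomX.hom K ⋙ tw P') := by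
  obtain ⟨e⟩ : Nonempty ((tw P').obj P ≅ Coh.structureModule X) := cl_eq_iff.1 (by
    show PicF.cl (CohB1.tensorMod P P') = _
    rw [cl_tensor, h, one_def])
  obtain ⟨e'⟩ : Nonempty ((tw P).obj P' ≅ Coh.structureModule X) := cl_eq_iff.1 (by
    show PicF.cl (CohB1.tensorMod P' P) = _
    rw [cl_tensor, mul_comm, h, one_def])
  let E : X.Modules ≌ X.Modules := CategoryTheory.Equivalence.mk (tw P) (tw P')
    (twUnit.symm ≪≫ (DCoh.tensorBi (X := X)).flip.mapIso e.symm ≪≫ (twComp P P').symm)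
    (twComp P' P ≪≫ (DCoh.tensorBi (X := X)).flip.mapIso e' ≪≫ twUnit)
  let A : tw P ⋙ tw K ⊣ SheafHomX.hom K ⋙ tw P' := E.toAdjunction.comp (SheafHomX.adj K)
  exact ⟨Adjunction.rightAdjointUniq (SheafHomX.adj ((tw K).obj P))
    (A.ofNatIsoLeft (twComp P K))⟩

variable (k : Type u) [Field k] [X.Over (Spec (CommRingCat.of k))] [IsProper (X ↘ Spec (CommRingCat.of k))]
  [HasExt.{u} X.Modules]

include k in
/-- Negative twists of a finite locally free module are acyclic below the dimension. -/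
theorem exists_vanishing_finLocFree {L L' ω : X.Modules} (hL : CohB1.IsAmple L) (hL' : PicF.IsInvertible L')
    (hinv : PicF.cl L * PicF.cl L' = 1) (hω : PicF.IsInvertible ω) {N : ℕ}
    (hdual : ∀ K : X.Modules, Coh.IsCoh K → ∀ p, p < N →
      Subsingleton (Abelian.Ext.{u} K ω (N - p)) → Subsingleton (Coh.HH X K p))
    {K : X.Modules} (hK : FlatMod.IsFinLocFree K) :
    ∃ n₀, ∀ n, n₀ ≤ n → ∀ p, p < N → Subsingleton (Coh.HH X (CohB1.tensorMod K (CohB1.tensorPow L' n)) p) := by
  haveI : IsLocallyNoetherian X := LocallyOfFiniteType.isLocallyNoetherian (X ↘ Spec (CommRingCat.of k))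
  have hKc : Coh.IsCoh K := CurveDeg.isCoh_of_isFinLocFree hK
  obtain ⟨d₀, hd₀⟩ := exists_vanishing (A := k) hL (SheafHomX.isCoh_hom hKc (CurveDeg.isCoh_of_isInvertible hω))
  refine ⟨d₀, fun n hn p hp => ?_⟩
  let P := CohB1.tensorPow L' n
  let P' := CohB1.tensorPow L n
  have hP : PicF.IsInvertible P := InvX.isInvertible_tensorPow hL' n
  have hPK : FlatMod.IsFinLocFree ((tw K).obj P) :=
    KFlatLib.isFinLocFree_tensor (H23.PullPush.isFinLocFree_of_isInvertible hP) hK
  obtain ⟨i, hi⟩ : ∃ i, N - p = i + 1 := ⟨N - p - 1, by omega⟩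
  obtain ⟨η⟩ := nonempty_hom_twist_iso (P := P) (P' := P') K (by
    rw [cl_tensorPow, cl_tensorPow, ← mul_pow, mul_comm, hinv, one_pow])
  haveI h1 : Subsingleton (Coh.HH X ((SheafHomX.hom ((tw K).obj P)).obj ω) (N - p)) := by
    rw [hi]
    exact QCoh.subsingleton_HH_of_iso (η.app ω).symm _ (hd₀ n hn i)
  obtain ⟨ε⟩ := PnDual.nonempty_ext_linearEquiv_HH (A := k) hPK ω (N - p)
  have h2 := hdual _ (CurveDeg.isCoh_of_isFinLocFree hPK) p hp ε.toEquiv.subsingleton
  obtain ⟨c⟩ := H23.PicMul.comm P K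
  exact QCoh.subsingleton_HH_of_iso c p h2

end Groth.Agent.DepthTwist
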