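import Groth.Agent.DepthTwist.Pn
import Groth.Agent.Lib.AmpleImmersion
import Groth.Agent.H23.InvStalk
import Groth.Prelude.Def_ClSub2

/-!
# Negative twists of modules of depth at least two on a proper scheme
-/

set_option linter.style.haveILetI false
set_option backward.isDefEq.respectTransparency false
set_option backward.isDefEq.respectTransparency.types false

universe u

open CategoryTheory CategoryTheory.Limits AlgebraicGeometry TopologicalSpace Opposite MonoidalCategory
open Groth.Agent.H23.PicMul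
open scoped TensorProduct

noncomputable section

namespace Groth.Agent.DepthTwist

open Groth.Agent

variable {X : Scheme.{u}}

/-- Depth of the stalks is unchanged by an invertible twist. -/
theorem depth_stalk_twist (F : X.Modules) {P : X.Modules} (hP : PicF.IsInvertible P) (x : X) :
    LocCoh.depth (X.presheaf.stalk x) ((CohB1.tensorMod F P).presheaf.stalk x) =
      LocCoh.depth (X.presheaf.stalk x) (F.presheaf.stalk x) := by
  obtain ⟨e⟩ := H23.InvStalk.exists_stalk_equiv hP x
  let ε : ((DerSch.stalkFunctor X x).obj (CohB1.tensorMod F P) : Type u) ≃ₗ[X.presheaf.stalk x]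
      ((DerSch.stalkFunctor X x).obj F : Type u) :=
    (KFlatLib.stalkTensorIso x F P).toLinearEquiv.symm.trans
      ((TensorProduct.congr (LinearEquiv.refl _ _) e).trans (TensorProduct.rid _ _))
  exact Alg6.depth_eq_of_semilinear (RingHom.id (X.presheaf.stalk x)) (fun a => ⟨a, rfl⟩)
    ε.toAddEquiv (fun r m => map_smul ε r m)

/-- Negative powers of an ample module kill the first cohomology of a module of depth at least two. -/
theorem exists_vanishing_neg (k : Type u) [Field k] [X.Over (Spec (CommRingCat.of k))]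
    [IsProper (X ↘ Spec (CommRingCat.of k))] {L M : X.Modules} (hL : CohB1.IsAmple L)
    (hM : ClSub.IsInverseOf L M) (F : X.Modules) (hF : Coh.IsCoh F)
    (hdepth : ∀ x : X, IsClosed ({x} : Set X) → 2 ≤ LocCoh.depth (X.presheaf.stalk x) (F.presheaf.stalk x)) :
    ∃ m₀ : ℕ, ∀ m : ℕ, m₀ ≤ m →
      Subsingleton (Coh.HH X (CohB1.tensorMod F (CohB1.tensorPow M m)) 1) := by
  classical
  rcases isEmpty_or_nonempty X with hX | hX
  · exact ⟨0, fun m _ => Euler.subsingleton_HH_of_isZero
      (CurveCohLib.isZero_of_subsingleton_stalks fun z => hX.elim z) 1⟩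
  obtain ⟨N, r, h1, h2, ⟨d, hd, hiso⟩, -⟩ :=
    AmpleEmbed.exists_immersion_of_section (X ↘ Spec (CommRingCat.of k)) hL 0
  haveI : IsProper (CohB1.ProjSpace.toSpec N k) := PnCoh.Chow.isProper_toSpec N k
  haveI : IsProper (r ≫ CohB1.ProjSpace.toSpec N k) := by rw [h2]; infer_instance
  haveI : IsProper r := IsProper.of_comp r (CohB1.ProjSpace.toSpec N k)
  haveI : IsClosedImmersion r := .of_isPreimmersion _ r.isClosedMap.isClosed_range
  haveI : IsLocallyNoetherian X := LocallyOfFiniteType.isLocallyNoetherian (X ↘ Spec (CommRingCat.of k))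
  have hLM : PicF.cl L * PicF.cl M = 1 := by
    rw [← cl_tensor, H23.PicMul.one_def]; exact cl_eq_iff.2 hM
  obtain ⟨D, hD, ⟨eD⟩⟩ := H23.PicInv.exists_inverse hL.1
  have hLD : PicF.cl L * PicF.cl D = 1 := by
    rw [← cl_tensor, H23.PicMul.one_def]; exact cl_eq_iff.2 ⟨eD⟩
  have hMi : PicF.IsInvertible M := by
    obtain ⟨eDM⟩ : Nonempty (D ≅ M) :=
      cl_eq_iff.1 (left_inv_eq_right_inv (by rw [mul_comm]; exact hLD) hLM)
    exact H23.PicMul.isInvertible_of_iso eDM hD
  have hinv : PicF.cl (CohB1.tensorPow L d) * PicF.cl (CohB1.tensorPow M d) = 1 := by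
    rw [cl_tensorPow, cl_tensorPow, ← mul_pow, hLM, one_pow]
  have H : ∀ s : Fin d, ∃ n₀, ∀ n, n₀ ≤ n → Subsingleton (Coh.HH X
      (CohB1.tensorMod (CohB1.tensorMod F (CohB1.tensorPow M s)) (CohB1.tensorPow (CohB1.tensorPow M d) n)) 1) :=
    fun s => by
    refine exists_vanishing_one k N r _
      (AmpleVan.isCoh_tensor hF (CurveDeg.isCoh_of_isInvertible (InvX.isInvertible_tensorPow hMi s)))
      (fun x hx => ?_) (hiso hX) hinv
    rw [depth_stalk_twist F (InvX.isInvertible_tensorPow hMi s) x]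
    exact hdepth x hx
  choose n₀ hn₀ using H
  refine ⟨(Finset.univ.sup n₀ + 1) * d, fun m hm => ?_⟩
  have hs : m % d < d := Nat.mod_lt _ hd
  have hq : n₀ ⟨m % d, hs⟩ ≤ m / d := by
    refine le_trans (Finset.le_sup (f := n₀) (Finset.mem_univ _)) ?_
    rw [Nat.le_div_iff_mul_le hd]
    calc _ ≤ (Finset.univ.sup n₀ + 1) * d := Nat.mul_le_mul_right _ (Nat.le_succ _)
      _ ≤ m := hm
  obtain ⟨u⟩ : Nonempty (CohB1.tensorMod (CohB1.tensorPow M (m % d))
      (CohB1.tensorPow (CohB1.tensorPow M d) (m / d)) ≅ CohB1.tensorPow M m) := cl_eq_iff.1 (by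
    rw [cl_tensor, cl_tensorPow, cl_tensorPow, cl_tensorPow, cl_tensorPow, ← pow_mul, ← pow_add,
      Nat.mod_add_div])
  exact QCoh.subsingleton_HH_of_iso
    (((AmpleVan.twComp _ _).app F) ≪≫ (DCoh.tensorBi.obj F).mapIso u) 1 (hn₀ ⟨m % d, hs⟩ _ hq)

end Groth.Agent.DepthTwist
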