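import Groth.Agent.DepthTwist.Induction
import Groth.Agent.Lib.PnDualExtPn
import Groth.Agent.LC.PdRegular
import Groth.Agent.Alg6.LocLoc
import Groth.Agent.CurveEmbed.Conic
import Groth.Agent.KFlatLib.Scheme.ClosedPush
import Groth.Agent.KFlatLib.Scheme.ProjModule
import Groth.Agent.QCoh.DevissageP
import Groth.Agent.QCoh.AffineCohom
import Groth.Agent.AmpleX.Proj
import Groth.Agent.S10829

/-!
# Negative twists of a coherent module of depth at least two on a closed subscheme of projective space
-/

set_option linter.style.haveILetI false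
set_option backward.isDefEq.respectTransparency false
set_option backward.isDefEq.respectTransparency.types false

universe u

open CategoryTheory CategoryTheory.Limits AlgebraicGeometry TopologicalSpace Opposite MonoidalCategory
open Groth.Agent.H23.PicMul

noncomputable section

namespace Groth.Agent.DepthTwist

open Groth.Agent

variable {X P : Scheme.{u}}

/-- Depth at a closed point is unchanged by pushing forward along a closed immersion. -/
theorem depth_stalk_push (i : X ⟶ P) [IsClosedImmersion i] (F : X.Modules) (x : X) :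
    LocCoh.depth (P.presheaf.stalk (i x)) (((Scheme.Modules.pushforward i).obj F).presheaf.stalk (i x)) =
      LocCoh.depth (X.presheaf.stalk x) (F.presheaf.stalk x) := by
  have hsurj : Function.Surjective (i.stalkMap x).hom := i.stalkMap_surjective x
  let e : ((Scheme.Modules.pushforward i).obj F).presheaf.stalk (i x) ≃+ F.presheaf.stalk x :=
    (asIso (TopCat.Presheaf.stalkPushforward Ab.{u} i.base F.presheaf x)).addCommGroupIsoToAddEquiv
  refine Alg6.depth_eq_of_semilinear (i.stalkMap x).hom hsurj e fun a m => ?_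
  obtain ⟨U, hxU, r, rfl⟩ := P.presheaf.exists_germ_eq (x := i x) a
  obtain ⟨V, hxV, s, rfl⟩ := TopCat.Presheaf.exists_germ_eq ((Scheme.Modules.pushforward i).obj F).presheaf m
  let W : P.Opens := U ⊓ V
  have hxW : i x ∈ W := ⟨hxU, hxV⟩
  rw [← P.presheaf.germ_res_apply (homOfLE (inf_le_left : W ≤ U)) (i x) hxW r,
    ← ((Scheme.Modules.pushforward i).obj F).presheaf.germ_res_apply (homOfLE (inf_le_right : W ≤ V)) (i x) hxW s]
  generalize P.presheaf.map (homOfLE (inf_le_left : W ≤ U)).op r = r'
  generalize ((Scheme.Modules.pushforward i).obj F).presheaf.map (homOfLE (inf_le_right : W ≤ V)).op s = s'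
  have he : ∀ t : Γ((Scheme.Modules.pushforward i).obj F, W),
      e (((Scheme.Modules.pushforward i).obj F).presheaf.germ W (i x) hxW t) =
        F.presheaf.germ (i ⁻¹ᵁ W) x hxW (show Γ(F, i ⁻¹ᵁ W) from t) := fun t =>
    ConcreteCategory.congr_hom (TopCat.Presheaf.stalkPushforward_germ Ab.{u} i.base F.presheaf W x hxW) t
  rw [← QCoh.germ_smul' ((Scheme.Modules.pushforward i).obj F) hxW r' s', he, he,
    Scheme.Hom.germ_stalkMap_apply i W x hxW r']
  exact QCoh.germ_smul' F (show x ∈ i ⁻¹ᵁ W from hxW) (i.app W r') (show Γ(F, i ⁻¹ᵁ W) from s')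

/-- Modules of depth at least two at the closed points of a closed subscheme of projective space have
no first cohomology in high negative twists. -/
theorem exists_vanishing_one (k : Type u) [Field k] (N : ℕ) (i : X ⟶ CohB1.ProjSpace N k)
    [IsClosedImmersion i] (F : X.Modules) (hF : Coh.IsCoh F)
    (hdepth : ∀ x : X, IsClosed ({x} : Set X) → 2 ≤ LocCoh.depth (X.presheaf.stalk x) (F.presheaf.stalk x))
    {O1 : X.Modules} (hO : Nonempty ((Scheme.Modules.pullback i).obj (Twist.twistProjSpace N k 1) ≅ O1))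
    {O1' : X.Modules} (hinv : PicF.cl O1 * PicF.cl O1' = 1) :
    ∃ n₀, ∀ n, n₀ ≤ n → Subsingleton (Coh.HH X (CohB1.tensorMod F (CohB1.tensorPow O1' n)) 1) := by
  classical
  let P := CohB1.ProjSpace N k
  letI : P.Over (Spec (CommRingCat.of k)) := ⟨CohB1.ProjSpace.toSpec N k⟩
  haveI : IsProper (P ↘ Spec (CommRingCat.of k)) := PnCoh.Chow.isProper_toSpec N k
  haveI : IsNoetherian P := Proj16.isNoetherian_proj _
  haveI : IsLocallyNoetherian X := LocallyOfFiniteType.isLocallyNoetherian i
  haveI : HasExt.{u} P.Modules := IsGrothendieckAbelian.hasExt _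
  haveI : IsIntegral P := H23.PnChart.isIntegral_projSpace N k
  haveI : JacobsonSpace P := LocallyOfFiniteType.jacobsonSpace (P ↘ Spec (CommRingCat.of k))
  haveI : Smooth (P ↘ Spec (CommRingCat.of k)) := CurveEmbed.smooth_toSpec N k
  haveI : JacobsonSpace X := .of_isClosedEmbedding i.isClosedEmbedding
  let G := (Scheme.Modules.pushforward i).obj F
  have hG : Coh.IsCoh G := QCoh.isCoh_push i hF
  have hL : CohB1.IsAmple (Twist.twistProjSpace N k 1) := by
    refine AmpleX.isAmple_twist_one (𝒜 := CohB1.polyGrading N k) (Finset.univ.image fun j : Fin (N + 1) => MvPolynomial.X j) ?_ ?_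
    · intro g hg
      obtain ⟨j, -, rfl⟩ := Finset.mem_image.1 hg
      exact ProjPt.X_mem j
    · refine eq_top_iff.2 fun y _ => ?_
      obtain ⟨j, hj⟩ := Opens.mem_iSup.1 ((AmpleEmbed.iSup_basicOpen_X N k).ge (trivial : y ∈ (⊤ : Opens _)))
      exact Opens.mem_iSup.2 ⟨⟨MvPolynomial.X j, Finset.mem_image.2 ⟨j, Finset.mem_univ _, rfl⟩⟩, hj⟩
  obtain ⟨L', hL', ⟨e⟩⟩ := H23.PicInv.exists_inverse hL.1
  have hinv' : PicF.cl (Twist.twistProjSpace N k 1) * PicF.cl L' = 1 := by
    rw [← cl_tensor, H23.PicMul.one_def]; exact cl_eq_iff.2 ⟨e⟩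
  let ω := Twist.twistProjSpace N k (-((N : ℤ) + 1))
  have hω : PicF.IsInvertible ω :=
    PnCoh.Finite.isInvertible_twist (fun j : ULift.{u} (Fin (N + 1)) => MvPolynomial.X j.down)
      (fun j => ProjPt.X_mem j.down) (by
        refine top_le_iff.1 ((AmpleEmbed.iSup_basicOpen_X N k).ge.trans (iSup_le fun j => ?_))
        exact le_iSup_of_le (ULift.up j) le_rfl) _
  have hdual : ∀ K : P.Modules, Coh.IsCoh K → ∀ p, p < N →
      Subsingleton (Abelian.Ext.{u} K ω (N - p)) → Subsingleton (Coh.HH P K p) := fun K hK p hp h => by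
    obtain ⟨ε⟩ := (PnDual.serre_duality (PnDual.goodPn_of_isCoh hK) (N - p)).1 (Nat.sub_le _ _)
    haveI := h
    haveI hd : Subsingleton (Module.Dual k (Coh.HH P K (N - (N - p)))) := ε.symm.toEquiv.subsingleton
    have hp' : N - (N - p) = p := by omega
    rw [hp'] at hd
    haveI : Module.Free k (Coh.HH P K p) := Module.Free.of_divisionRing k _
    exact subsingleton_of_forall_eq 0 fun v => (Module.forall_dual_apply_eq_zero_iff k v).1 fun g => by
      rw [Subsingleton.elim g 0]; rfl
  have hdim : ∀ y : P, IsClosed ({y} : Set P) →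
      IsRegularLocalRing (P.presheaf.stalk y) ∧ ringKrullDim (P.presheaf.stalk y) = N := fun y hy =>
    ⟨SmoothReg.isRegularLocalRing_stalk_of_mem_smoothLocus (P ↘ Spec (CommRingCat.of k))
      (by rw [(P ↘ Spec (CommRingCat.of k)).smoothLocus_eq_top_iff.2 inferInstance]; trivial),
      (SmoothReg.ringKrullDim_stalk_closedPoint (P ↘ Spec (CommRingCat.of k)) hy).trans (S10829.result k N)⟩
  have hd : ∀ y : P, IsClosed ({y} : Set P) → 2 ≤ LocCoh.depth (P.presheaf.stalk y) (G.presheaf.stalk y) :=
    fun y hy => by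
    by_cases hr : y ∈ Set.range i
    · obtain ⟨x, rfl⟩ := hr
      rw [depth_stalk_push]
      refine hdepth x ?_
      have h : ({x} : Set X) = i ⁻¹' {i x} := by
        ext z
        exact ⟨fun hz => congrArg i hz, fun hz => i.isClosedEmbedding.injective hz⟩
      rw [h]
      exact hy.preimage i.continuous
    · haveI : Subsingleton (G.presheaf.stalk y) :=
        AddCommGrpCat.subsingleton_of_isZero (KFlatLib.isZero_stalk_push i y hr F)
      exact le_top.trans_eq (if_pos (Subsingleton.elim _ _)).symm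
  have hfin : ∀ y : P, Module.Finite (P.presheaf.stalk y) (G.presheaf.stalk y) := fun y =>
    QCoh.finite_stalk_of_isFT hG.1 hG.2 y
  have key : ∃ n₀, ∀ n, n₀ ≤ n → Subsingleton (Coh.HH P (CohB1.tensorMod G (CohB1.tensorPow L' n)) 1) := by
    rcases Nat.lt_or_ge N 2 with hN | hN
    · have hz : IsZero G := CurveCohLib.isZero_of_subsingleton_stalks fun z => by
        by_contra hz
        obtain ⟨y, hyz, hy⟩ := nonempty_inter_closedPoints
          ⟨z, (show z ∈ CohB1.support G from hz)⟩ (QCoh.isClosed_support_of_isFT hG.1 hG.2).isLocallyClosed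
        obtain ⟨hreg, hdy⟩ := hdim y (mem_closedPoints_iff.1 hy)
        haveI := hreg
        haveI := hfin y
        haveI : Nontrivial (G.presheaf.stalk y) := not_subsingleton_iff_nontrivial.1 hyz
        have h1 := (LC.depth_le_supportDim (R := P.presheaf.stalk y) (M := G.presheaf.stalk y)).trans
          (Module.supportDim_le_ringKrullDim _ _)
        rw [hdy] at h1
        have h2 := (WithBot.coe_le_coe.2 (hd y (mem_closedPoints_iff.1 hy))).trans h1
        have h3 : (2 : ℕ) ≤ N := by exact_mod_cast h2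
        omega
      refine ⟨0, fun n _ => ?_⟩
      haveI := AmpleVan.isEquivalence_tw (InvX.isInvertible_tensorPow hL' n)
      haveI : (AmpleVan.tw (CohB1.tensorPow L' n)).Additive := Functor.additive_of_preserves_binary_products _
      exact Euler.subsingleton_HH_of_isZero ((AmpleVan.tw (CohB1.tensorPow L' n)).map_isZero hz) 1
    · have hpd : PdLT G (N - 2 + 1) := fun y hy => by
        obtain ⟨hreg, hdy⟩ := hdim y hy
        haveI := hreg
        haveI := hfin y
        have hle : (N : ℕ∞) ≤ LocCoh.depth (P.presheaf.stalk y) (G.presheaf.stalk y) + ((N - 2 : ℕ) : ℕ∞) := by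
          refine le_trans ?_ (add_le_add_left (hd y hy) _)
          exact_mod_cast (by omega : N ≤ 2 + (N - 2))
        exact LC.pdLE_of_le_depth (P.presheaf.stalk y) N hdy (G.presheaf.stalk y) (N - 2) hle
      exact exists_vanishing_of_pd k hL hL' hinv' hω hdual (N - 2) hG hpd 1 (by omega)
  obtain ⟨n₀, hn₀⟩ := key
  refine ⟨n₀, fun n hn => ?_⟩
  let M := CohB1.tensorPow L' n
  have hM : PicF.IsInvertible M := InvX.isInvertible_tensorPow hL' n
  obtain ⟨u⟩ : Nonempty ((Scheme.Modules.pullback i).obj M ≅ CohB1.tensorPow O1' n) := cl_eq_iff.1 (by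
    have hmul : PicF.cl O1 * PicF.cl ((Scheme.Modules.pullback i).obj L') = 1 := by
      rw [← cl_eq_iff.2 hO]
      show PicF.pullCl i (PicF.cl (Twist.twistProjSpace N k 1)) * PicF.pullCl i (PicF.cl L') = 1
      rw [← pullCl_mul, hinv', pullCl_one]
    show PicF.pullCl i (PicF.cl (CohB1.tensorPow L' n)) = _
    rw [cl_tensorPow, pullCl_pow, cl_tensorPow,
      show PicF.pullCl i (PicF.cl L') = PicF.cl O1' from (left_inv_eq_right_inv
        (by rw [mul_comm]; exact hinv) hmul).symm])
  have hq : Coh.IsQCoh (CohB1.tensorMod F ((Scheme.Modules.pullback i).obj M)) :=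
    KFlatLib.isQCoh_tensor hF.1 (ProjUPX.isQCoh_of_isInvertible (PicClLib.isInvertible_pullback i hM))
  obtain ⟨ε⟩ := QCoh.HH_push_of_isAffineHom i hq 1
  haveI hproj := KFlatLib.isIso_projMod_of_isClosedImmersion i F M
  have h1 := QCoh.subsingleton_HH_of_iso (asIso (KFlatLib.projMod i F M)) 1 (hn₀ n hn)
  have h2 : Subsingleton (Coh.HH X (CohB1.tensorMod F ((Scheme.Modules.pullback i).obj M)) 1) :=
    @Equiv.subsingleton _ _ ε.toEquiv h1
  exact QCoh.subsingleton_HH_of_iso ((DCoh.tensorBi.obj F).mapIso u) 1 h2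

end Groth.Agent.DepthTwist
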